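import Groth.Agent.DualFMLib.Twist.Inverse
import Groth.Agent.TensorAssocLib.Derived

/-!
# Tensoring with an invertible object is an equivalence
-/

set_option autoImplicit false
set_option linter.all false
set_option backward.isDefEq.respectTransparency false
set_option backward.isDefEq.respectTransparency.types false
set_option maxHeartbeats 1000000

universe u

open CategoryTheory CategoryTheory.Limits AlgebraicGeometry HomologicalComplex
open Groth.Agent.DerLib Groth.Agent.PerfDualLib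

attribute [local instance] HasDerivedCategory.standard
attribute [local instance 2000] DCoh.additive_tensorBi_obj

noncomputable section

namespace Groth.Agent.DualFMLib

variable {X : Scheme.{u}}

/-- Tensoring with an object having a tensor inverse is an equivalence. -/
theorem nonempty_lTensor_inverse (W E : Cx X) [DCoh.HasLTensorCx W] [DCoh.HasLTensorCx E]
    (eE : DerivedCategory.Q.obj (unitCx X) ≅ (DCoh.LTensorCx E).obj (DerivedCategory.Q.obj W)) :
    Nonempty (DCoh.LTensorCx W ⋙ DCoh.LTensorCx E ≅ 𝟭 _) ∧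
      Nonempty (DCoh.LTensorCx E ⋙ DCoh.LTensorCx W ≅ 𝟭 _) := by
  let W₀ := Dual3Lib.Serre.Pr W
  let E₀ := Dual3Lib.Serre.Pr E
  haveI := KFlatLib.hasLTensorCx W₀
  haveI := KFlatLib.hasLTensorCx E₀
  haveI := KFlatLib.hasLTensorCx (((DCoh.tensorCx (X := X)).obj W₀).obj E₀)
  haveI := KFlatLib.hasLTensorCx (((DCoh.tensorCx (X := X)).obj E₀).obj W₀)
  obtain ⟨a⟩ := PerfDualLib.nonempty_lTensor_congr (Dual3Lib.Serre.ψr W)
  obtain ⟨b⟩ := PerfDualLib.nonempty_lTensor_congr (Dual3Lib.Serre.ψr E)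
  obtain ⟨c₁⟩ := TensorAssocLib.nonempty_lTensor_comp W₀ E₀ (Dual3Lib.Serre.kFlat_Pr E)
  obtain ⟨c₂⟩ := TensorAssocLib.nonempty_lTensor_comp E₀ W₀ (Dual3Lib.Serre.kFlat_Pr W)
  let e₁ : DerivedCategory.Q.obj (((DCoh.tensorCx (X := X)).obj W₀).obj E₀) ≅
      DerivedCategory.Q.obj (PerfDualLib.unitCx X) :=
    ((Dual3Lib.flatCnt' E₀ (Dual3Lib.Serre.kFlat_Pr E)).app W₀).symm ≪≫
      (DCoh.LTensorCx E₀).mapIso (asIso (DerivedCategory.Q.map (Dual3Lib.Serre.ψr W))) ≪≫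
      b.app _ ≪≫ eE.symm
  let e₂ : DerivedCategory.Q.obj (((DCoh.tensorCx (X := X)).obj E₀).obj W₀) ≅
      DerivedCategory.Q.obj (PerfDualLib.unitCx X) :=
    DerivedCategory.Q.mapIso (PerfDualLib.bX E₀ W₀) ≪≫ e₁
  obtain ⟨d₁⟩ := Dual3Lib.Serre.nonempty_lTensor_unit _ e₁
  obtain ⟨d₂⟩ := Dual3Lib.Serre.nonempty_lTensor_unit _ e₂
  exact ⟨⟨Functor.isoWhiskerRight a.symm _ ≪≫ Functor.isoWhiskerLeft _ b.symm ≪≫ c₁ ≪≫ d₁⟩,
    ⟨Functor.isoWhiskerRight b.symm _ ≪≫ Functor.isoWhiskerLeft _ a.symm ≪≫ c₂ ≪≫ d₂⟩⟩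

end Groth.Agent.DualFMLib
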