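import Groth.Agent.UniqDualSchLib.Main
import Groth.Agent.Dual3Lib.SerreMain

/-!
# Invertible objects have tensor inverses
-/

set_option autoImplicit false
set_option linter.all false
set_option backward.isDefEq.respectTransparency false
set_option backward.isDefEq.respectTransparency.types false
set_option maxHeartbeats 1000000

universe u

open CategoryTheory CategoryTheory.Limits AlgebraicGeometry HomologicalComplex
open Groth.Agent Groth.Agent.DerLib Groth.Agent.PerfDualLib Groth.Agent.DualCxLib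
open UniqDualSchLib

attribute [local instance] HasDerivedCategory.standard

noncomputable section

namespace Groth.Agent.DualFMLib

variable {X : Scheme.{u}}

/-- The structure sheaf is reflexive for itself. -/
theorem refl_unit (U : X.Opens) {I : Cx X} [I.IsKInjective] (q : unitCx X ⟶ I) [QuasiIso q] :
    BidualSchLib.Refl U I (unitCx X) := by
  let j : Gen.t2 (Tb X) (unitCx X) (unitCx X) ⟶ I := (unitNat.app (unitCx X)).hom ≫ q
  haveI : QuasiIso j := quasiIso_comp _ _
  let A := Gen.gAdj (Tb X) (unitCx X)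
  let φ : unitCx X ⟶ iG (unitCx X) I := A.homEquiv (unitCx X) I j
  haveI : QuasiIso φ := Dual3Lib.Serre.quasiIso_homEquiv_unit (Dual3Lib.Serre.isKFlat_unitCx X) (𝟙 _) j
  have h : BidualSchLib.ev (unitCx X) I ≫ gm φ I =
      A.homEquiv (unitCx X) I ((KFlatLib.tCxFlip (unitCx X) (unitCx X)).hom ≫ j) := by
    refine Gen.adjunct_injective (T := Tb X) ?_
    rw [Gen.adjunct_comp_Gmap, BidualSchLib.adjunct_ev]
    refine Eq.trans ?_ (Equiv.symm_apply_apply _ _).symm
    refine ((reassoc_of% (BidualSchLib.tCxFlip_natural φ (𝟙 (unitCx X)))) _).trans ?_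
    refine congrArg (_ ≫ ·) ?_
    exact ((A.homEquiv_counit _ _ _).symm.trans (Equiv.symm_apply_apply _ j))
  haveI : QuasiIso ((KFlatLib.tCxFlip (unitCx X) (unitCx X)).hom ≫ j) := quasiIso_comp _ _
  haveI : QuasiIso (BidualSchLib.ev (unitCx X) I ≫ gm φ I) := by
    rw [h]
    exact Dual3Lib.Serre.quasiIso_homEquiv_unit (Dual3Lib.Serre.isKFlat_unitCx X) (𝟙 _) _
  haveI : QuasiIso (gm φ I) := quasiIso_gm φ I
  haveI := quasiIso_of_comp_right (BidualSchLib.ev (unitCx X) I) (gm φ I)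
  exact QisOn.of_quasiIso U _

/-- An invertible object has a tensor inverse. -/
theorem exists_tensor_inverse
    [∀ (U V : Scheme.{u}) (j : U ⟶ V) [IsOpenImmersion j], PreservesFiniteLimits (Scheme.Modules.restrictFunctor j)]
    (K : DCoh.D X) (hinv : Dual3.IsInvertibleD K) :
    ∃ (E : Cx X) (_ : DCoh.HasLTensorCx E), Dual3.IsInvertibleD (DCoh.toD X E) ∧
      Nonempty (DerivedCategory.Q.obj (unitCx X) ≅ (DCoh.LTensorCx E).obj K) := by
  let K' := DerivedCategory.Q.obj (unitCx X)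
  obtain ⟨I, hI, ⟨eI⟩⟩ := KInjUse.exists_iso_Q_kInjective K
  obtain ⟨I', hI', ⟨eI'⟩⟩ := KInjUse.exists_iso_Q_kInjective K'
  haveI := hI
  haveI := hI'
  obtain ⟨q, hq, -⟩ := exists_quasiIso eI'
  haveI := hq
  have hu : ∀ (V : X.Opens) (y : ℤ), BidualSchLib.Refl V I' (uSh X y) :=
    fun V y => refl_uSh (refl_unit V q) y
  let E := (KFlatLib.resP X).obj (iG I I')
  have hE : DCoh.IsKFlat E := (KFlatLib.good_resP _).1
  haveI := KFlatLib.hasLTensorCx E
  have key : ∀ x : X, ∃ (V : X.Opens) (n : ℤ), x ∈ V ∧ QisOn V (pair I' I) ∧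
      Nonempty ((DCoh.restrictD V.ι).obj (DerivedCategory.Q.obj E) ≅
        (DCoh.restrictD V.ι).obj (DerivedCategory.Q.obj (uSh X n))) := by
    intro x
    obtain ⟨V, n, hxV, ⟨c⟩⟩ := hinv x
    let a : (DCoh.restrictD V.ι).obj K ≅ (DCoh.restrictD V.ι).obj (K'⟦n⟧) :=
      c ≪≫ (shiftFunctor _ n).mapIso ((restrictInDUnit V.ι).symm ≪≫ (DCoh.restrictD V.ι).mapIso
        ((DerivedCategory.singleFunctorIsoCompQ X.Modules 0).app (Coh.structureModule X))) ≪≫
        (((DCoh.restrictD V.ι).commShiftIso n).app K').symm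
    let C := uSh X (-n)
    let G1 := iG C I'
    haveI : G1.IsKInjective := isKInjective_iG (isKFlat_uSh (-n)) I'
    haveI : ((rC V).obj G1).IsKInjective := BidualSchLib.isKInjective_rJ V.ι G1
    let eG : DerivedCategory.Q.obj G1 ≅ K'⟦n⟧ :=
      DerivedCategory.Q.mapIso ((gShiftIso (-n)).app I' ≪≫ eqToIso (by rw [neg_neg])) ≪≫
        (DerivedCategory.Q.commShiftIso n).app I' ≪≫ (shiftFunctor _ n).mapIso eI'.symm
    let fac := (Scheme.Modules.restrictFunctor V.ι).mapDerivedCategoryFactors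
    obtain ⟨g, hg⟩ := KInjUse.Q_map_surjective ((rC V).obj I) ((rC V).obj G1)
      ((fac.app I).inv ≫ ((DCoh.restrictD V.ι).mapIso eI.symm ≪≫ a ≪≫ (DCoh.restrictD V.ι).mapIso eG.symm).hom ≫
        (fac.app G1).hom)
    haveI : IsIso (DerivedCategory.Q.map g) := by rw [hg]; infer_instance
    haveI : QuasiIso g := (DerivedCategory.isIso_Q_map_iff_quasiIso _ g).1 inferInstance
    let S := (jC V).obj ((rC V).obj I)
    let c : S ⟶ I := ((cadj V).homEquiv _ I).symm (𝟙 _)
    let u : S ⟶ G1 := ((cadj V).homEquiv _ G1).symm g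
    have hc : QisOn V c := qisOn_adjunct V (𝟙 _)
    have hu' : QisOn V u := qisOn_adjunct V g
    refine ⟨V, -n, hxV, (qisOn_pair_iff I' hc).1 ((qisOn_pair_iff I' hu').2 (qisOn_pair_dual I' (-n) (hu V (-n)))), ?_⟩
    haveI := isIso_restrictD_of_qisOn V (qisOn_gm hc I')
    haveI := isIso_restrictD_of_qisOn V (qisOn_gm hu' I')
    haveI := isIso_restrictD_of_qisOn V (hu V (-n))
    haveI := KFlatLib.quasiIso_resψ (iG I I')
    let q : E ⟶ iG I I' := (KFlatLib.resψ X).app (iG I I')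
    let R := DCoh.restrictD V.ι
    exact ⟨R.mapIso (asIso (DerivedCategory.Q.map q)) ≪≫ asIso (R.map (DerivedCategory.Q.map (gm c I'))) ≪≫
      (asIso (R.map (DerivedCategory.Q.map (gm u I')))).symm ≪≫
      (asIso (R.map (DerivedCategory.Q.map (BidualSchLib.ev C I')))).symm⟩
  refine ⟨E, inferInstance, fun x => ?_, ⟨?_⟩⟩
  · obtain ⟨V, n, hxV, -, ⟨e⟩⟩ := key x
    exact ⟨V, n, hxV, ⟨e ≪≫ (DCoh.restrictD V.ι).mapIso ((DerivedCategory.Q.commShiftIso n).app (unitCx X) ≪≫
        (shiftFunctor _ n).mapIso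
          ((DerivedCategory.singleFunctorIsoCompQ X.Modules 0).app (Coh.structureModule X)).symm) ≪≫
      ((DCoh.restrictD V.ι).commShiftIso n).app _ ≪≫ (shiftFunctor _ n).mapIso (restrictInDUnit V.ι)⟩⟩
  · haveI : QuasiIso (pair I' I) := quasiIso_of_qisOn_top fun x _ => by
      obtain ⟨V, n, hxV, h, -⟩ := key x
      exact h x hxV
    haveI : IsIso (DerivedCategory.Q.map (pair I' I)) := inferInstance
    exact eI' ≪≫ (asIso (DerivedCategory.Q.map (pair I' I))).symm ≪≫
      DerivedCategory.Q.mapIso (KFlatLib.tCxFlip I E) ≪≫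
      ((TensorAssocLib.flatCnt E hE).app I).symm ≪≫ (DCoh.LTensorCx E).mapIso eI.symm

end Groth.Agent.DualFMLib
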