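import Groth.Agent.DualFMLib.FlatHom.Glob
import Groth.Agent.DualFMLib.GorFib.Fibre
import Groth.Agent.DualFMLib.Twist.Equiv
import Groth.Agent.Dual3Lib.LpullTensorNat
import Groth.Agent.Dual3Lib.DualNat
import Groth.Agent.KFlatLib.PCohPull
import Groth.Prelude.Def_DCoh4

/-!
# The twisted dual kernel
-/

set_option autoImplicit false
set_option linter.style.haveILetI false
set_option linter.unusedSectionVars false
set_option backward.isDefEq.respectTransparency false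
set_option backward.isDefEq.respectTransparency.types false
set_option maxHeartbeats 2000000
set_option synthInstance.maxHeartbeats 200000

universe u

open CategoryTheory CategoryTheory.Limits AlgebraicGeometry
open Groth.Agent.DerLib Groth.Agent.PerfDualLib Groth.Agent.ProjFormLib

attribute [local instance] HasDerivedCategory.standard

noncomputable section

namespace Groth.Agent.DualFMLib

/-- The unit complex in the derived category. -/
def inDUnit (X : Scheme.{u}) :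
    DCoh.inD X (Coh.structureModule X) ≅ DerivedCategory.Q.obj (unitCx X) :=
  (DerivedCategory.singleFunctorIsoCompQ _ 0).app _

/-- `RHom(K, -)` and the dual kernel. -/
theorem exists_dual_kernel {X : Scheme.{u}} (K : Cx X) [DCoh.HasLTensorCx K] [DCoh.HasRSheafHom K]
    (hK : DCoh.IsPerfect (DerivedCategory.Q.obj K)) :
    ∃ (D : Cx X) (_ : DCoh.HasLTensorCx D), DCoh.IsKFlat D ∧ DCoh.IsPerfect (DerivedCategory.Q.obj D) ∧
      Nonempty (DerivedCategory.Q.obj D ≅ (DCoh.RSheafHom K).obj (DCoh.inD X (Coh.structureModule X))) ∧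
      Nonempty (DCoh.LTensorCx D ≅ DCoh.RSheafHom K) := by
  obtain ⟨D, hD, ⟨e⟩⟩ := Dual3Lib.nonempty_lTensor_iso_rSheafHom K hK
  haveI := hD
  haveI := KFlatLib.hasLTensorCx (unitCx X)
  obtain ⟨D₀, hD₀, ⟨e₀⟩⟩ := exists_flat_rep (DerivedCategory.Q.obj D)
  haveI := KFlatLib.hasLTensorCx D₀
  obtain ⟨c⟩ := nonempty_lTensor_congr_iso e₀
  obtain ⟨u⟩ := nonempty_lTensor_unit_left D₀ hD₀
  let eD : DerivedCategory.Q.obj D₀ ≅ (DCoh.RSheafHom K).obj (DCoh.inD X (Coh.structureModule X)) :=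
    u.symm ≪≫ (c ≪≫ e).app _ ≪≫ (DCoh.RSheafHom K).mapIso (inDUnit X).symm
  exact ⟨D₀, inferInstance, hD₀, PerfLib.isPerfect_of_iso
    ((DCoh.RSheafHom K).mapIso (inDUnit X).symm ≪≫ eD.symm) (isPerfect_dual K hK), ⟨eD⟩, ⟨c ≪≫ e⟩⟩

section Square

variable {X Y X' Y' : Scheme.{u}} {f : X ⟶ Y} {g : Y' ⟶ Y} {f' : X' ⟶ Y'} {g' : X' ⟶ X}

/-- The relative dualizing complex of a base change. -/
theorem nonempty_relDualizing_bc [IsNoetherian Y] [IsNoetherian Y'] (H : IsPullback g' f' f g) [IsProper f]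
    [Flat f] [Flat g] [DCoh.HasRpush f] [DCoh.HasRpush f'] [DCoh.HasLpull g']
    {hf : DCoh.RpushPreservesQCoh f} {hf' : DCoh.RpushPreservesQCoh f'}
    {a : DCoh.DQCoh Y ⥤ DCoh.DQCoh X} {a' : DCoh.DQCoh Y' ⥤ DCoh.DQCoh X'}
    (adj : DCoh.RpushQ f hf ⊣ a) (adj' : DCoh.RpushQ f' hf' ⊣ a')
    (O : DCoh.DQCoh Y) (hO : O.obj ≅ DCoh.inD Y (Coh.structureModule Y))
    (O' : DCoh.DQCoh Y') (hO' : O'.obj ≅ DCoh.inD Y' (Coh.structureModule Y')) :
    Nonempty ((a'.obj O').obj ≅ (DCoh.Lpull g').obj (a.obj O).obj) := by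
  haveI : IsLocallyNoetherian X := LocallyOfFiniteType.isLocallyNoetherian f
  haveI : IsProper f' := MorphismProperty.of_isPullback (P := @IsProper) H inferInstance
  haveI : QuasiCompact g := quasiCompact_of_compactSpace g
  haveI : QuasiCompact g' := MorphismProperty.of_isPullback (P := @QuasiCompact) H.flip inferInstance
  haveI : QuasiSeparated g := inferInstance
  haveI : QuasiSeparated g' := MorphismProperty.of_isPullback (P := @QuasiSeparated) H.flip inferInstance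
  haveI := DCohRestrLib.hasRpush g
  haveI := DCohRestrLib.hasRpush g'
  haveI := KFlatLib.hasLpull g
  have hg : DCoh.RpushPreservesQCoh g := fun E hE => QRlimLib.isQCohD_rpush g hE
  have hg' : DCoh.RpushPreservesQCoh g' := fun E hE => QRlimLib.isQCohD_rpush g' hE
  let A := adjQ (g := g) (fun E hE => KFlatLib.isQCohD_lpull g E hE) hg
  let A' := adjQ (g := g') (fun E hE => KFlatLib.isQCohD_lpull g' E hE) hg'
  haveI hξ := isIso_xi_sqQ H adj adj' A A'
    ((Dual3.LpullQ g (fun E hE => KFlatLib.isQCohD_lpull g E hE)).obj O)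
  haveI := isIso_bcMap_perfect H (Dual3Lib.isPerfectMor_of_flat f) adj adj' A A' O hξ
  obtain ⟨u⟩ := nonempty_lpull_unitCx g
  let ν : O' ≅ (Dual3.LpullQ g (fun E hE => KFlatLib.isQCohD_lpull g E hE)).obj O :=
    ObjectProperty.isoMk _ (hO' ≪≫ inDUnit Y' ≪≫ u.symm ≪≫ (DCoh.Lpull g).mapIso (inDUnit Y).symm ≪≫
      (DCoh.Lpull g).mapIso hO.symm)
  exact ⟨(DCoh.IsQCohD (X := X')).ι.mapIso (a'.mapIso ν ≪≫
    (asIso (Dual3.bcMap adj adj' (sqQ H.w hf hf' hg hg') A A' O hξ)).symm)⟩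

end Square

section Transpose

variable {S X Y : Scheme.{u}} (a : X ⟶ S) (b : Y ⟶ S)

/-- The transform of a transposed kernel. -/
theorem nonempty_phi_transpose (T : Cx (pullback a b)) [DCoh.HasLTensorCx T]
    [DCoh.HasLpull (pullback.snd a b)] [DCoh.HasRpush (pullback.fst a b)]
    [DCoh.HasLpull (pullbackSymmetry b a).hom] (K' : Cx (pullback b a))
    (hK' : Nonempty (DCoh.toD _ K' ≅ (DCoh.Lpull (pullbackSymmetry b a).hom).obj (DCoh.toD _ T)))
    [DCoh.HasLpull (pullback.fst b a)] [DCoh.HasLTensorCx K'] [DCoh.HasRpush (pullback.snd b a)] :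
    Nonempty (FMK.phi b a K' ≅
      DCoh.Lpull (pullback.snd a b) ⋙ DCoh.LTensorCx T ⋙ DCoh.Rpush (pullback.fst a b)) := by
  let σ := pullbackSymmetry b a
  haveI := KFlatLib.hasLpull σ.inv
  haveI := DCohRestrLib.hasRpush σ.hom
  obtain ⟨N, hN, -, ⟨eΦ⟩, hNT⟩ := Dual3Lib.nonempty_conj_lTensor σ K'
  haveI := hN
  obtain ⟨eN⟩ := @hNT _
  obtain ⟨eK⟩ := hK'
  obtain ⟨ec⟩ := Dual3Lib.nonempty_lpull_iso_comp σ
  obtain ⟨c⟩ := nonempty_lTensor_congr_iso (eN ≪≫ (DCoh.Lpull σ.inv).mapIso eK ≪≫ ec.app (DCoh.toD _ T))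
  have h1 : σ.hom ≫ pullback.snd a b = pullback.fst b a := pullbackSymmetry_hom_comp_snd b a
  have h2 : σ.hom ≫ pullback.fst a b = pullback.snd b a := pullbackSymmetry_hom_comp_fst b a
  haveI := KFlatLib.hasLpull (σ.hom ≫ pullback.snd a b)
  haveI := DCohRestrLib.hasRpush (σ.hom ≫ pullback.fst a b)
  haveI := KFlatLib.hasLpull (pullback.fst a b)
  haveI := KFlatLib.hasLpull (σ.hom ≫ pullback.fst a b)
  obtain ⟨l⟩ := KFlatLib.lpull_comp σ.hom (pullback.snd a b)
  obtain ⟨r⟩ := KFlatLib.rpush_comp σ.hom (pullback.fst a b)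
  obtain ⟨l'⟩ : Nonempty (DCoh.Lpull (pullback.fst b a) ≅ DCoh.Lpull (pullback.snd a b) ⋙ DCoh.Lpull σ.hom) := by
    revert l
    simp only [h1]
    exact fun l => ⟨l.symm⟩
  obtain ⟨r'⟩ : Nonempty (DCoh.Rpush (pullback.snd b a) ≅ DCoh.Rpush σ.hom ⋙ DCoh.Rpush (pullback.fst a b)) := by
    revert r
    simp only [h2]
    exact fun r => ⟨r.symm⟩
  exact ⟨(NatIso.hcomp l' (NatIso.hcomp (Iso.refl (DCoh.LTensorCx K')) r') :
      FMK.phi b a K' ≅ DCoh.Lpull (pullback.snd a b) ⋙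
        (DCoh.Lpull σ.hom ⋙ DCoh.LTensorCx K' ⋙ DCoh.Rpush σ.hom) ⋙ DCoh.Rpush (pullback.fst a b)) ≪≫
    Functor.isoWhiskerLeft _ (Functor.isoWhiskerRight (eΦ ≪≫ c) _)⟩

end Transpose

end Groth.Agent.DualFMLib
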